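import Mathlib

/-!
# Two commuting pairs of non-commuting transpositions
-/

set_option autoImplicit false

namespace Cfsg.Agent.Fi24Pair

variable {G : Type*} [Group G]

/-- Two non-commuting involutions whose product has order three. -/
structure Pair (a d : G) : Prop where
  a_sq : a * a = 1
  d_sq : d * d = 1
  braid : a * d * a = d * a * d
  not_comm : ¬ Commute a d

namespace Pair

variable {a d : G} (h : Pair a d)
include h

theorem a_inv : a⁻¹ = a := inv_eq_of_mul_eq_one_right h.a_sq
theorem d_inv : d⁻¹ = d := inv_eq_of_mul_eq_one_right h.d_sq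

theorem conj_aa : a * a * a⁻¹ = a := by simp [mul_assoc]
theorem conj_ad : a * d * a⁻¹ = a * d * a := by rw [h.a_inv]
theorem conj_am : a * (a * d * a) * a⁻¹ = d := by
  simp only [mul_assoc, h.a_sq, mul_one, mul_inv_cancel]
  rw [← mul_assoc, h.a_sq, one_mul]
theorem conj_da : d * a * d⁻¹ = a * d * a := by rw [h.d_inv, h.braid]
theorem conj_dd : d * d * d⁻¹ = d := by simp [mul_assoc]
theorem conj_dm : d * (a * d * a) * d⁻¹ = a := by
  rw [h.braid, h.d_inv]
  simp only [mul_assoc, h.d_sq, mul_one]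
  rw [← mul_assoc, h.d_sq, one_mul]

theorem ne_ad : a ≠ d := fun e => h.not_comm (e ▸ Commute.refl a)

theorem ne_am : a ≠ a * d * a := fun e => h.ne_ad (by
  have := congrArg (fun x => a * x * a⁻¹) e
  simpa [h.conj_aa, h.conj_am] using this)

theorem ne_dm : d ≠ a * d * a := fun e => h.ne_ad (by
  have := congrArg (fun x => d * x * d⁻¹) e
  simp only [h.conj_dd, h.conj_dm] at this
  exact this.symm)

theorem not_comm_am : ¬ Commute a (a * d * a) := fun e => h.not_comm (by
  have := e.map (MulAut.conj a).toMonoidHom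
  simp only [MulEquiv.coe_toMonoidHom, MulAut.conj_apply, h.conj_aa, h.conj_am] at this
  exact this)

theorem not_comm_dm : ¬ Commute d (a * d * a) := fun e => h.not_comm (by
  have := e.map (MulAut.conj d).toMonoidHom
  simp only [MulEquiv.coe_toMonoidHom, MulAut.conj_apply, h.conj_dd, h.conj_dm] at this
  exact this.symm)

/-- The three members. -/
def tri (_ : Pair a d) : Set G := {a, d, a * d * a}

theorem tri_noncomm {x y : G} (hx : x ∈ h.tri) (hy : y ∈ h.tri) (hxy : x ≠ y) : ¬ Commute x y := by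
  rcases hx with e | e | e <;> rcases hy with f | f | f <;>
    rw [e, f] at hxy ⊢
  all_goals first
    | exact absurd rfl hxy
    | exact h.not_comm
    | exact fun e => h.not_comm e.symm
    | exact h.not_comm_am
    | exact fun e => h.not_comm_am e.symm
    | exact h.not_comm_dm
    | exact fun e => h.not_comm_dm e.symm

theorem tri_mem {x : G} (hx : x ∈ h.tri) : x ∈ Subgroup.closure ({a, d} : Set G) := by
  have ha : a ∈ Subgroup.closure ({a, d} : Set G) := Subgroup.subset_closure (by simp)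
  have hd : d ∈ Subgroup.closure ({a, d} : Set G) := Subgroup.subset_closure (by simp)
  rcases hx with rfl | rfl | rfl
  exacts [ha, hd, mul_mem (mul_mem ha hd) ha]

/-- Every ordered pair of two of the three members is conjugate to the first. -/
theorem exists_conj {x y : G} (hx : x ∈ h.tri) (hy : y ∈ h.tri) (hxy : x ≠ y) :
    ∃ t ∈ Subgroup.closure ({a, d} : Set G), t * a * t⁻¹ = x ∧ t * d * t⁻¹ = y := by
  have ha : a ∈ Subgroup.closure ({a, d} : Set G) := Subgroup.subset_closure (by simp)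
  have hd : d ∈ Subgroup.closure ({a, d} : Set G) := Subgroup.subset_closure (by simp)
  have hc : ∀ u v w : G, u * v * w * (u * v)⁻¹ = u * (v * w * v⁻¹) * u⁻¹ := fun u v w => by group
  rcases hx with e | e | e <;> rcases hy with f | f | f <;>
    rw [e, f] at hxy ⊢
  all_goals first | exact absurd rfl hxy | skip
  · exact ⟨1, one_mem _, by simp, by simp⟩
  · exact ⟨a, ha, h.conj_aa, h.conj_ad⟩
  · exact ⟨a * d * a, mul_mem (mul_mem ha hd) ha, by rw [hc, h.conj_aa, hc, h.conj_da, h.conj_am],
      by rw [hc, h.conj_ad, hc, h.conj_dm, h.conj_aa]⟩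
  · exact ⟨a * d, mul_mem ha hd, by rw [hc, h.conj_da, h.conj_am],
      by rw [hc, h.conj_dd, h.conj_ad]⟩
  · exact ⟨d * a, mul_mem hd ha, by rw [hc, h.conj_aa, h.conj_da],
      by rw [hc, h.conj_ad, h.conj_dm]⟩
  · exact ⟨d, hd, h.conj_da, h.conj_dd⟩

end Pair

/-- Two commuting pairs. -/
structure Quad (a d b c : G) : Prop where
  left : Pair a d
  right : Pair b c
  ab : Commute a b
  ac : Commute a c
  db : Commute d b
  dc : Commute d c

namespace Quad

variable {a d b c : G} (q : Quad a d b c)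
include q

theorem comm {x y : G} (hx : x ∈ q.left.tri) (hy : y ∈ q.right.tri) : Commute x y := by
  have h1 : ∀ z, (z = a ∨ z = d ∨ z = a * d * a) → Commute z b ∧ Commute z c := by
    rintro z (rfl | rfl | rfl)
    exacts [⟨q.ab, q.ac⟩, ⟨q.db, q.dc⟩, ⟨(q.ab.mul_left q.db).mul_left q.ab, (q.ac.mul_left q.dc).mul_left q.ac⟩]
  obtain ⟨hb, hc⟩ := h1 x hx
  rcases hy with rfl | rfl | rfl
  exacts [hb, hc, (hb.mul_right hc).mul_right hb]

/-- The six members. -/
def six (q : Quad a d b c) : Set G := q.left.tri ∪ q.right.tri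

theorem disjoint {x : G} (hx : x ∈ q.left.tri) : x ∉ q.right.tri := by
  intro hy
  have ha : a ∈ q.left.tri := Or.inl rfl
  have hd : d ∈ q.left.tri := Or.inr (Or.inl rfl)
  rcases eq_or_ne x a with rfl | hne
  · exact q.left.not_comm (q.comm hd hy).symm
  · exact q.left.tri_noncomm hx ha hne (q.comm ha hy).symm

theorem six_ncard : q.six.ncard = 6 := by
  classical
  have h3 : ∀ {a d : G} (h : Pair a d), h.tri.ncard = 3 := fun h =>
    Set.ncard_eq_three.2 ⟨_, _, _, h.ne_ad, h.ne_am, h.ne_dm, rfl⟩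
  have hf : ∀ {a d : G} (h : Pair a d), h.tri.Finite := fun h => by
    unfold Pair.tri; exact Set.toFinite _
  rw [six, Set.ncard_union_eq (Set.disjoint_left.2 fun x hx => q.disjoint hx) (hf _) (hf _), h3, h3]

/-- The group generated by the four. -/
def gens (_ : Quad a d b c) : Subgroup G := Subgroup.closure ({a, d, b, c} : Set G)

theorem gens_le {x : G} (hx : x ∈ q.six) : x ∈ q.gens := by
  rcases hx with hx | hx
  · exact Subgroup.closure_mono (by intro z hz; rcases hz with rfl | rfl <;> simp) (q.left.tri_mem hx)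
  · exact Subgroup.closure_mono (by intro z hz; rcases hz with rfl | rfl <;> simp) (q.right.tri_mem hx)

theorem fixes {t : G} (ht : t ∈ Subgroup.closure ({a, d} : Set G)) {y : G} (hy : y ∈ q.right.tri) :
    Commute t y := by
  induction ht using Subgroup.closure_induction with
  | mem x hx => exact q.comm (by rcases hx with rfl | rfl <;> simp [Pair.tri]) hy
  | one => exact Commute.one_left _
  | mul _ _ _ _ h1 h2 => exact h1.mul_left h2
  | inv _ _ h1 => exact h1.inv_left

theorem fixes' {t : G} (ht : t ∈ Subgroup.closure ({b, c} : Set G)) {x : G} (hx : x ∈ q.left.tri) :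
    Commute t x := by
  induction ht using Subgroup.closure_induction with
  | mem y hy => exact (q.comm hx (by rcases hy with rfl | rfl <;> simp [Pair.tri])).symm
  | one => exact Commute.one_left _
  | mul _ _ _ _ h1 h2 => exact h1.mul_left h2
  | inv _ _ h1 => exact h1.inv_left

/-- Where an element permuting the six sends the pairs. -/
theorem image_cases {g : G} (hg : ∀ x ∈ q.six, g * x * g⁻¹ ∈ q.six) :
    (g * a * g⁻¹ ∈ q.left.tri ∧ g * d * g⁻¹ ∈ q.left.tri ∧ g * b * g⁻¹ ∈ q.right.tri ∧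
        g * c * g⁻¹ ∈ q.right.tri) ∨
      (g * a * g⁻¹ ∈ q.right.tri ∧ g * d * g⁻¹ ∈ q.right.tri ∧ g * b * g⁻¹ ∈ q.left.tri ∧
        g * c * g⁻¹ ∈ q.left.tri) := by
  have hgg : ∀ x y, Commute (g * x * g⁻¹) (g * y * g⁻¹) ↔ Commute x y := fun x y => Commute.conj_iff g
  have hinj : ∀ x y, x ≠ y → g * x * g⁻¹ ≠ g * y * g⁻¹ :=
    fun x y h e => h (mul_left_cancel (mul_right_cancel e))
  have ha := hg a (Or.inl (Or.inl rfl))
  have hd := hg d (Or.inl (Or.inr (Or.inl rfl)))
  have hb := hg b (Or.inr (Or.inl rfl))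
  have hc := hg c (Or.inr (Or.inr (Or.inl rfl)))
  have nad : ¬ Commute (g * a * g⁻¹) (g * d * g⁻¹) := fun h => q.left.not_comm ((hgg _ _).1 h)
  have nbc : ¬ Commute (g * b * g⁻¹) (g * c * g⁻¹) := fun h => q.right.not_comm ((hgg _ _).1 h)
  have cab := (hgg a b).2 q.ab
  have cac := (hgg a c).2 q.ac
  have cdb := (hgg d b).2 q.db
  have cdc := (hgg d c).2 q.dc
  -- a member commuting with two different members of a triple is in the other
  have key : ∀ {a d b c : G} (q : Quad a d b c) {u v z : G}, u ∈ q.left.tri → v ∈ q.left.tri → u ≠ v →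
      z ∈ q.six → Commute u z → Commute v z → z ∈ q.right.tri := by
    intro a d b c q u v z hu hv huv hz h1 h2
    refine hz.resolve_left fun hzl => ?_
    rcases eq_or_ne z u with rfl | hne
    · exact q.left.tri_noncomm hv hu huv.symm h2
    · exact q.left.tri_noncomm hzl hu hne h1.symm
  have q' : Quad b c a d := ⟨q.right, q.left, q.ab.symm, q.db.symm, q.ac.symm, q.dc.symm⟩
  have hsix : q'.six = q.six := Set.union_comm _ _
  rcases ha with ha | ha
  · have hd' := hd.resolve_right fun h => nad (q.comm ha h)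
    have hne := hinj a d q.left.ne_ad
    exact Or.inl ⟨ha, hd', key q ha hd' hne hb cab cdb, key q ha hd' hne hc cac cdc⟩
  · have hd' := hd.resolve_left fun h => nad (q.comm h ha).symm
    have hne := hinj a d q.left.ne_ad
    exact Or.inr ⟨ha, hd', key q' ha hd' hne (hsix.symm ▸ hb) cab cdb,
      key q' ha hd' hne (hsix.symm ▸ hc) cac cdc⟩

/-- An element that keeps the pairs lies in the group generated by the four times their
centralizer. -/
theorem stable_factor {g : G} (ha : g * a * g⁻¹ ∈ q.left.tri) (hd : g * d * g⁻¹ ∈ q.left.tri)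
    (hb : g * b * g⁻¹ ∈ q.right.tri) (hc : g * c * g⁻¹ ∈ q.right.tri) :
    ∃ t ∈ q.gens, t⁻¹ * g ∈ Subgroup.centralizer (q.gens : Set G) := by
  have hinj : ∀ x y, x ≠ y → g * x * g⁻¹ ≠ g * y * g⁻¹ :=
    fun x y h e => h (mul_left_cancel (mul_right_cancel e))
  obtain ⟨t, ht, hta, htd⟩ := q.left.exists_conj ha hd (hinj a d q.left.ne_ad)
  obtain ⟨s, hs, hsb, hsc⟩ := q.right.exists_conj hb hc (hinj b c q.right.ne_ad)
  have fb := q.fixes ht (y := b) (Or.inl rfl)
  have fc := q.fixes ht (y := c) (Or.inr (Or.inl rfl))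
  have fa := q.fixes' hs (x := a) (Or.inl rfl)
  have fd := q.fixes' hs (x := d) (Or.inr (Or.inl rfl))
  have htq : t ∈ q.gens := Subgroup.closure_mono (by intro z hz; rcases hz with rfl | rfl <;> simp) ht
  have hsq : s ∈ q.gens := Subgroup.closure_mono (by intro z hz; rcases hz with rfl | rfl <;> simp) hs
  refine ⟨t * s, mul_mem htq hsq, ?_⟩
  rw [gens, Subgroup.centralizer_closure, Subgroup.mem_centralizer_iff]
  have hta' : t * s * a * (t * s)⁻¹ = g * a * g⁻¹ := by
    rw [← hta, show t * s * a * (t * s)⁻¹ = t * (s * a * s⁻¹) * t⁻¹ by group, fa.mul_inv_cancel]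
  have htd' : t * s * d * (t * s)⁻¹ = g * d * g⁻¹ := by
    rw [← htd, show t * s * d * (t * s)⁻¹ = t * (s * d * s⁻¹) * t⁻¹ by group, fd.mul_inv_cancel]
  have htb' : t * s * b * (t * s)⁻¹ = g * b * g⁻¹ := by
    rw [← hsb, show t * s * b * (t * s)⁻¹ = t * (s * b * s⁻¹) * t⁻¹ by group]
    exact (q.fixes ht (y := s * b * s⁻¹) (hsb ▸ hb)).mul_inv_cancel
  have htc' : t * s * c * (t * s)⁻¹ = g * c * g⁻¹ := by
    rw [← hsc, show t * s * c * (t * s)⁻¹ = t * (s * c * s⁻¹) * t⁻¹ by group]
    exact (q.fixes ht (y := s * c * s⁻¹) (hsc ▸ hc)).mul_inv_cancel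
  have key : ∀ x, t * s * x * (t * s)⁻¹ = g * x * g⁻¹ → x * ((t * s)⁻¹ * g) = (t * s)⁻¹ * g * x := by
    intro x hx
    calc x * ((t * s)⁻¹ * g) = (t * s)⁻¹ * (t * s * x * (t * s)⁻¹) * g := by group
      _ = (t * s)⁻¹ * g * x := by rw [hx]; group
  rintro z (rfl | rfl | rfl | rfl)
  exacts [key _ hta', key _ htd', key _ htb', key _ htc']

end Quad

end Cfsg.Agent.Fi24Pair
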