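import Cfsg.Agent.Fi24Pair.Main
import Cfsg.Agent.Fi24Pair.Quad

/-!
# Subgroups of order thirteen
-/

set_option maxRecDepth 100000
set_option autoImplicit false

namespace Cfsg.Agent.Fi24Pair

open Cfsg.Agent.CosetCert Cfsg.Agent.Fi24

theorem card_G : Nat.card G = 306936 * (2 * 4089470473293004800) := by
  rw [← Fi24Index.index_val, ← card_H]
  exact (Subgroup.index_mul_card H).symm

/-- The element of order thirteen. -/
noncomputable def W : G := el w13

theorem w13_facts : (∀ x ∈ w13, x < 12) ∧ W ^ 13 = 1 ∧ W ≠ 1 := by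
  have h := w13_ok.1
  simp only [Bool.and_eq_true, Bool.not_eq_true', List.all_eq_true, Nat.blt_eq] at h
  obtain ⟨⟨h1, h2⟩, h3⟩ := h
  have hk : (3 : Nat) = ((k0 : Fin 306936) : Nat) := (fp_val (by norm_num)).symm
  refine ⟨h2, ?_, fun hW => ?_⟩
  · rw [W, ← el_rep]; exact eq_one_of_check h1
  · rw [hk, ← Bool.not_eq_true, fixB_iff h2] at h3
    refine h3 ?_
    rw [show el w13 = 1 from hW, map_one, Equiv.Perm.one_apply]

theorem fix13_all {c : Nat} (hc : c < 306936) : fix13OK c = true := by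
  have h1 := forall_lt_step (b := 25578) forall_lt_zero fix13_ok0 rfl
  have h2 := forall_lt_step (b := 51156) h1 fix13_ok1 rfl
  have h3 := forall_lt_step (b := 76734) h2 fix13_ok2 rfl
  have h4 := forall_lt_step (b := 102312) h3 fix13_ok3 rfl
  have h5 := forall_lt_step (b := 127890) h4 fix13_ok4 rfl
  have h6 := forall_lt_step (b := 153468) h5 fix13_ok5 rfl
  have h7 := forall_lt_step (b := 179046) h6 fix13_ok6 rfl
  have h8 := forall_lt_step (b := 204624) h7 fix13_ok7 rfl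
  have h9 := forall_lt_step (b := 230202) h8 fix13_ok8 rfl
  have h10 := forall_lt_step (b := 255780) h9 fix13_ok9 rfl
  have h11 := forall_lt_step (b := 281358) h10 fix13_ok10 rfl
  exact forall_lt_step (b := 306936) h11 fix13_ok11 rfl c hc

theorem card_W : Nat.card (Subgroup.zpowers W) = 13 := by
  haveI := Fact.mk (show Nat.Prime 13 by norm_num)
  rw [Nat.card_zpowers]
  exact orderOf_eq_prime w13_facts.2.1 w13_facts.2.2

theorem conj_thirteen {X Y : Subgroup G} (hX : Nat.card X = 13) (hY : Nat.card Y = 13) :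
    ∃ g : G, X.map (MulAut.conj g).toMonoidHom = Y := by
  haveI := Fact.mk (show Nat.Prime 13 by norm_num)
  haveI : Finite G := Nat.finite_of_card_ne_zero (by rw [card_G]; norm_num)
  exact conj_of_card_prime (by rw [card_G]; norm_num) hX hY

/-- The members centralized by a subgroup. -/
def fixMem (B : Subgroup G) : Set G := {x | x ∈ D ∧ ∀ z ∈ B, Commute z x}

theorem fixMem_le {B : Subgroup G} (hB : Nat.card B = 13) :
    (fixMem B).Finite ∧ (fixMem B).ncard ≤ 6 := by
  classical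
  obtain ⟨g, hg⟩ := conj_thirteen hB card_W
  obtain ⟨s, hs⟩ : ∃ s : Finset (Fin 306936), s = (fix13.map fp).toFinset := ⟨_, rfl⟩
  have hsub : fixMem B ⊆ (fun x => g⁻¹ * x * g) '' (T '' ↑s) := by
    rintro x ⟨hx, hc⟩
    obtain ⟨c, rfl⟩ := exists_point hx
    refine ⟨_, ⟨φ g c, ?_, rfl⟩, by rw [← conj_T]; group⟩
    obtain ⟨z, hz, hzW⟩ : W ∈ B.map (MulAut.conj g).toMonoidHom := hg ▸ Subgroup.mem_zpowers W
    have h1 : Commute W (T (φ g c)) := by
      rw [← hzW, ← conj_T]
      exact (hc z hz).map (MulAut.conj g).toMonoidHom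
    have h2 := (fixB_iff w13_facts.1 _).2 ((commute_T_iff _ _).1 h1)
    have h3 := fix13_all (φ g c).2
    rw [fix13OK, h2] at h3
    obtain ⟨q, hq, hqe⟩ := List.any_eq_true.1 h3
    rw [hs, List.coe_toFinset]
    exact List.mem_map.2 ⟨q, hq, by rw [Nat.eq_of_beq_eq_true hqe, fp_coe]⟩
  have hfin : ((fun x => g⁻¹ * x * g) '' (T '' ↑s)).Finite := (s.finite_toSet.image _).image _
  refine ⟨hfin.subset hsub, (Set.ncard_le_ncard hsub hfin).trans ?_⟩
  refine (Set.ncard_image_le (s.finite_toSet.image _)).trans ?_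
  refine (Set.ncard_image_le s.finite_toSet).trans ?_
  rw [Set.ncard_coe_finset, hs]
  refine (List.toFinset_card_le _).trans ?_
  rw [List.length_map, w13_ok.2]

theorem inS_K {c : Fin 306936} (hc : inS c = true) : Commute L (T c) ∧ Commute K (T c) := inS_comm.1 hc

theorem pair_of {x y : G} (hx : x ∈ D) (hy : y ∈ D) (h : ¬ Commute x y) : Pair x y := by
  have sq : ∀ {z : G}, z ∈ D → z * z = 1 := fun {z} hz => by
    obtain ⟨c, rfl⟩ := exists_point hz; exact T_sq c
  refine ⟨sq hx, sq hy, ?_, h⟩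
  have hxi : x⁻¹ = x := inv_eq_of_mul_eq_one_right (sq hx)
  have hyi : y⁻¹ = y := inv_eq_of_mul_eq_one_right (sq hy)
  rcases three_class.1.2 x hx y hy with h2 | h3
  · refine absurd ?_ h
    rw [pow_two] at h2
    have := eq_inv_of_mul_eq_one_left h2
    rw [mul_inv_rev, hxi, hyi] at this
    exact this
  · rw [pow_succ, pow_two] at h3
    have h4 : (x * y * x) * (y * x * y) = 1 := by simpa [mul_assoc] using h3
    have := eq_inv_of_mul_eq_one_left h4
    simpa [hxi, hyi, mul_assoc] using this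

theorem quad : Quad L K (T b0) (T c2) := by
  obtain ⟨hb, -, hc, -, hn⟩ := roots_spec
  refine ⟨pair_of (T_c0 ▸ T_mem c0) (T_k0 ▸ T_mem k0) fun h => k_not_comm h.symm,
    pair_of (T_mem _) (T_mem _) hn, (inS_K hb).1, (inS_K hc).1, (inS_K hb).2, (inS_K hc).2⟩

theorem six_D {x : G} (hx : x ∈ quad.six) : x ∈ D := by
  have hc : ∀ {u v : G}, u ∈ D → v ∈ D → u * v * u ∈ D := fun {u v} hu hv => by
    obtain ⟨p, rfl⟩ := exists_point hu
    obtain ⟨q, rfl⟩ := exists_point hv
    have h := conj_T (T p) q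
    rw [T_inv] at h
    exact h ▸ T_mem _
  have hL : L ∈ D := T_c0 ▸ T_mem c0
  have hK : K ∈ D := T_k0 ▸ T_mem k0
  rcases hx with (h | h | h) | (h | h | h) <;> rw [h]
  exacts [hL, hK, hc hL hK, T_mem _, T_mem _, hc (T_mem _) (T_mem _)]

/-- The group of the four. -/
noncomputable abbrev T4 : Subgroup G := quad.gens

theorem centralizer_T4 : Subgroup.centralizer (T4 : Set G) = K2 := by
  rw [K2_eq, T4, Quad.gens, Subgroup.centralizer_closure]

theorem K2_thirteen {B : Subgroup G} (hle : B ≤ K2) (hB : Nat.card B = 13) :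
    K2 ⊓ Subgroup.centralizer (B : Set G) = B ∧
      Nat.card ↥(K2 ⊓ Subgroup.normalizer (B : Set G)) = 78 := by
  obtain ⟨f⟩ := K2_iso
  have hB' : Nat.card ((B.subgroupOf K2).map f.toMonoidHom) = 13 := by
    rw [← Nat.card_congr ((B.subgroupOf K2).equivMapOfInjective _ f.injective).toEquiv,
      Nat.card_congr (Subgroup.subgroupOfEquivOfLe hle).toEquiv, hB]
  obtain ⟨hc, hn⟩ := g2_thirteen _ hB'
  have hcomm : ∀ x y : K2, Commute (f x) (f y) ↔ Commute (x : G) (y : G) := fun x y =>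
    ⟨fun h => congrArg Subtype.val (f.injective (by rw [map_mul, map_mul]; exact h) : x * y = y * x),
      fun h => (show Commute x y from Subtype.ext h).map f.toMonoidHom⟩
  constructor
  · apply le_antisymm
    · rintro x ⟨hx, hxc⟩
      have h1 : f ⟨x, hx⟩ ∈ (B.subgroupOf K2).map f.toMonoidHom := by
        rw [← hc]
        rintro _ ⟨y, hy, rfl⟩
        exact ((hcomm ⟨x, hx⟩ y).2 (hxc _ hy).symm).symm
      obtain ⟨y, hy, hyx⟩ := h1
      have : (y : G) = x := congrArg Subtype.val (f.injective hyx)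
      exact this ▸ hy
    · refine le_inf hle fun x hx y hy => ?_
      have h1 : f ⟨x, hle hx⟩ ∈ Subgroup.centralizer
          (((B.subgroupOf K2).map f.toMonoidHom : Subgroup _) : Set _) := by
        rw [hc]; exact ⟨_, hx, rfl⟩
      exact ((hcomm ⟨y, hle hy⟩ ⟨x, hle hx⟩).1 (h1 _ ⟨⟨y, hle hy⟩, hy, rfl⟩)).eq
  · rw [← hn, ← Subgroup.map_equiv_normalizer_eq,
      ← Nat.card_congr (Subgroup.equivMapOfInjective _ f.toMonoidHom f.injective).toEquiv]
    refine (Nat.card_congr (Subgroup.subgroupOfEquivOfLe inf_le_left).toEquiv).symm.trans ?_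
    rw [Subgroup.inf_subgroupOf_left]
    refine congrArg (fun H : Subgroup K2 => Nat.card H) ?_
    ext x
    rw [Subgroup.mem_subgroupOf, Subgroup.mem_normalizer_iff, Subgroup.mem_normalizer_iff]
    constructor
    · intro h y
      exact h (y : G)
    · intro h y
      by_cases hy : y ∈ K2
      · exact h ⟨y, hy⟩
      · refine iff_of_false (fun hh => hy (hle hh)) fun hh => hy ?_
        have := mul_mem (mul_mem (inv_mem x.2) (hle hh)) x.2
        rwa [show (x : G)⁻¹ * ((x : G) * y * (x : G)⁻¹) * (x : G) = y by group] at this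

/-- The six members are those centralized by a subgroup of order thirteen. -/
theorem fixMem_eq {B : Subgroup G} (hle : B ≤ K2) (hB : Nat.card B = 13) :
    fixMem B = quad.six := by
  obtain ⟨hfin, hcard⟩ := fixMem_le hB
  refine (Set.eq_of_subset_of_ncard_le ?_ (hcard.trans quad.six_ncard.ge) hfin).symm
  intro x hx
  refine ⟨six_D hx, fun z hz => ?_⟩
  have h1 : z ∈ Subgroup.centralizer (T4 : Set G) := centralizer_T4.symm ▸ hle hz
  exact (h1 x (quad.gens_le hx)).symm

theorem six_move {B : Subgroup G} (hle : B ≤ K2) (hB : Nat.card B = 13) {g : G}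
    (hg : g ∈ Subgroup.normalizer (B : Set G)) : ∀ x ∈ quad.six, g * x * g⁻¹ ∈ quad.six := by
  intro x hx
  rw [← fixMem_eq hle hB] at hx ⊢
  obtain ⟨c, rfl⟩ := exists_point hx.1
  refine ⟨conj_T g c ▸ T_mem _, fun z hz => ?_⟩
  have h1 : g⁻¹ * z * g ∈ B := by
    have := (Subgroup.mem_normalizer_iff.1 (inv_mem hg) z).1 hz
    rwa [inv_inv] at this
  have h2 := (hx.2 _ h1).map (MulAut.conj g).toMonoidHom
  simpa [mul_assoc] using h2

theorem normalizes_T4 {g : G} (hg : ∀ x ∈ quad.six, g * x * g⁻¹ ∈ quad.six) :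
    T4.map (MulAut.conj g).toMonoidHom ≤ T4 := by
  rw [T4, Quad.gens, MonoidHom.map_closure, Subgroup.closure_le]
  rintro _ ⟨x, hx, rfl⟩
  refine quad.gens_le (hg x ?_)
  rcases hx with h | h | h | h <;> rw [h]
  exacts [Or.inl (Or.inl rfl), Or.inl (Or.inr (Or.inl rfl)), Or.inr (Or.inl rfl),
    Or.inr (Or.inr (Or.inl rfl))]

theorem conj_K2 {g : G} (hg : T4.map (MulAut.conj g⁻¹).toMonoidHom ≤ T4) {x : G} (hx : x ∈ K2) :
    g * x * g⁻¹ ∈ K2 := by
  rw [← centralizer_T4] at hx ⊢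
  intro t ht
  have h1 : g⁻¹ * t * g ∈ T4 := hg ⟨t, ht, by simp⟩
  calc t * (g * x * g⁻¹) = g * (g⁻¹ * t * g * x) * g⁻¹ := by group
    _ = g * (x * (g⁻¹ * t * g)) * g⁻¹ := by rw [hx _ h1]
    _ = g * x * g⁻¹ * t := by group

theorem normalizer_le {B : Subgroup G} (hle : B ≤ K2) (hB : Nat.card B = 13) :
    Subgroup.normalizer (B : Set G) ≤ Subgroup.normalizer (K2 : Set G) := by
  intro g hg
  have h : ∀ u, u ∈ Subgroup.normalizer (B : Set G) → ∀ x, x ∈ K2 → u * x * u⁻¹ ∈ K2 :=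
    fun u hu x hx => conj_K2 (normalizes_T4 (six_move hle hB (inv_mem hu))) hx
  refine Subgroup.mem_normalizer_iff.2 fun x => ⟨h g hg x, fun hx => ?_⟩
  have := h g⁻¹ (inv_mem hg) _ hx
  simpa [mul_assoc] using this

theorem swap_pairs {α : Type} (p q r s : α) : ({r, s, p, q} : Set α) = {p, q, r, s} := by
  ext x
  simp only [Set.mem_insert_iff, Set.mem_singleton_iff]
  tauto

/-- An element exchanging the pairs. -/
theorem exists_swap : ∃ g : G, g * L * g⁻¹ = T b0 ∧ g * K * g⁻¹ = T c2 ∧ g * T b0 * g⁻¹ = L ∧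
    g * T c2 * g⁻¹ = K := by
  obtain ⟨hb, -, hc, -, hn⟩ := roots_spec
  obtain ⟨h, h1, h2⟩ := exists_move (T_mem b0) (T_mem c2) hn
  have hc' : ∀ {u v : G}, Commute u v → Commute (h * u * h⁻¹) (h * v * h⁻¹) := fun {u v} e =>
    (Commute.conj_iff h).2 e
  have i1 : inS (φ h c0 : Fin 306936) = true := by
    have a1 := (hc' (inS_K hb).1).symm
    have a2 := (hc' (inS_K hc).1).symm
    rw [h1] at a1
    rw [h2] at a2
    rw [inS_comm, ← conj_T, T_c0]
    exact ⟨a1, a2⟩
  have i2 : inS (φ h k0 : Fin 306936) = true := by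
    have a1 := (hc' (inS_K hb).2).symm
    have a2 := (hc' (inS_K hc).2).symm
    rw [h1] at a1
    rw [h2] at a2
    rw [inS_comm, ← conj_T, T_k0]
    exact ⟨a1, a2⟩
  have i3 : ¬ Commute (T (φ h c0)) (T (φ h k0)) := by
    rw [← conj_T, ← conj_T, T_c0, T_k0, Commute.conj_iff]
    exact fun h => k_not_comm h.symm
  obtain ⟨u, hu, hx, hy⟩ := orbit_pairs i1 i2 i3
  obtain ⟨g, hg⟩ : ∃ g, g = u * h := ⟨_, rfl⟩
  have hL : φ g c0 = b0 := by rw [hg, map_mul, Equiv.Perm.mul_apply, hx]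
  have hK : φ g k0 = φ u (φ h k0) := by rw [hg, map_mul, Equiv.Perm.mul_apply]
  obtain ⟨huL, huK⟩ := P0_conj hu
  have e3 : g * T b0 * g⁻¹ = L := by
    rw [hg, show u * h * T b0 * (u * h)⁻¹ = u * (h * T b0 * h⁻¹) * u⁻¹ by group, h1, huL]
  have e4 : g * T c2 * g⁻¹ = K := by
    rw [hg, show u * h * T c2 * (u * h)⁻¹ = u * (h * T c2 * h⁻¹) * u⁻¹ by group, h2, huK]
  have e1 : g * L * g⁻¹ = T b0 := by rw [← T_c0, conj_T, hL]
  rcases hy with hy | hy
  · exfalso
    have e2 : g * K * g⁻¹ = T c1 := by rw [← T_k0, conj_T, hK, hy]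
    have hmap := map_centralizer_four (MulAut.conj g) (T b0) (T c2)
    simp only [MulAut.conj_apply, e1, e2, e3, e4] at hmap
    rw [← K2_eq, swap_pairs, ← K1_eq] at hmap
    have hcard : Nat.card ↥(K2.map (MulAut.conj g).toMonoidHom) = Nat.card K2 :=
      (Nat.card_congr (K2.equivMapOfInjective (MulAut.conj g).toMonoidHom
        (MulAut.conj g).injective).toEquiv).symm
    rw [hmap, card_K1, card_K2] at hcard
    omega
  · exact ⟨g, e1, by rw [← T_k0, conj_T, hK, hy], e3, e4⟩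

theorem T4_le_normalizer {B : Subgroup G} (hle : B ≤ K2) :
    T4 ≤ Subgroup.normalizer (B : Set G) := by
  intro t ht
  refine Subgroup.mem_normalizer_iff.2 fun z => ?_
  have key : ∀ w ∈ B, ∀ s ∈ T4, s * w * s⁻¹ = w := fun w hw s hs => by
    have h1 : w ∈ Subgroup.centralizer (T4 : Set G) := centralizer_T4.symm ▸ hle hw
    rw [h1 s hs, mul_inv_cancel_right]
  constructor
  · intro hz; rw [key z hz t ht]; exact hz
  · intro hz
    have := key _ hz t⁻¹ (inv_mem ht)
    rw [show t⁻¹ * (t * z * t⁻¹) * t⁻¹⁻¹ = z by group] at this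
    exact this ▸ hz

theorem index_two {B : Subgroup G} (hle : B ≤ K2) (hB : Nat.card B = 13) :
    (((K2 ⊓ Subgroup.normalizer (B : Set G)) ⊔ T4).subgroupOf
      (Subgroup.normalizer (B : Set G))).index = 2 := by
  obtain ⟨M, hM⟩ : ∃ M, M = (K2 ⊓ Subgroup.normalizer (B : Set G)) ⊔ T4 := ⟨_, rfl⟩
  rw [← hM]
  have hMle : M ≤ Subgroup.normalizer (B : Set G) := hM ▸ sup_le inf_le_right (T4_le_normalizer hle)
  -- the members of the group keep the first triple
  let keep : Subgroup G :=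
    { carrier := {g | (∀ x ∈ quad.left.tri, g * x * g⁻¹ ∈ quad.left.tri) ∧
        ∀ x ∈ quad.left.tri, g⁻¹ * x * g ∈ quad.left.tri}
      one_mem' := ⟨fun x hx => by simpa using hx, fun x hx => by simpa using hx⟩
      mul_mem' := fun {u v} hu hv => ⟨fun x hx => by
          rw [show u * v * x * (u * v)⁻¹ = u * (v * x * v⁻¹) * u⁻¹ by group]
          exact hu.1 _ (hv.1 x hx),
        fun x hx => by
          rw [show (u * v)⁻¹ * x * (u * v) = v⁻¹ * (u⁻¹ * x * u) * v by group]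
          exact hv.2 _ (hu.2 x hx)⟩
      inv_mem' := fun {u} hu => ⟨fun x hx => by rw [inv_inv]; exact hu.2 x hx,
        fun x hx => by rw [inv_inv]; exact hu.1 x hx⟩ }
  have hinv : ∀ s : G, s⁻¹ = s → (∀ x ∈ quad.left.tri, s * x * s⁻¹ ∈ quad.left.tri) → s ∈ keep :=
    fun s hs h => ⟨h, fun x hx => by
      have := h x hx
      rw [hs] at this ⊢
      exact this⟩
  have hkeep : M ≤ keep := by
    rw [hM]
    refine sup_le ?_ ?_
    · intro g hg
      have hc : g ∈ Subgroup.centralizer (T4 : Set G) := centralizer_T4.symm ▸ hg.1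
      constructor <;> intro x hx
      · rw [← hc x (quad.gens_le (Or.inl hx)), mul_inv_cancel_right]; exact hx
      · rw [mul_assoc, hc x (quad.gens_le (Or.inl hx)), inv_mul_cancel_left]; exact hx
    · rw [T4, Quad.gens, Subgroup.closure_le]
      rintro s (rfl | rfl | rfl | rfl)
      · refine hinv _ quad.left.a_inv ?_
        rintro x (rfl | rfl | rfl)
        · rw [quad.left.conj_aa]; exact Or.inl rfl
        · rw [quad.left.conj_ad]; exact Or.inr (Or.inr rfl)
        · rw [quad.left.conj_am]; exact Or.inr (Or.inl rfl)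
      · refine hinv _ quad.left.d_inv ?_
        rintro x (rfl | rfl | rfl)
        · rw [quad.left.conj_da]; exact Or.inr (Or.inr rfl)
        · rw [quad.left.conj_dd]; exact Or.inr (Or.inl rfl)
        · rw [quad.left.conj_dm]; exact Or.inl rfl
      · refine hinv _ quad.right.a_inv fun x hx => ?_
        rw [← (quad.comm hx (Or.inl rfl)).eq, mul_inv_cancel_right]; exact hx
      · refine hinv _ quad.right.d_inv fun x hx => ?_
        rw [← (quad.comm hx (Or.inr (Or.inl rfl))).eq, mul_inv_cancel_right]; exact hx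
  -- conversely
  have hstab : ∀ g ∈ Subgroup.normalizer (B : Set G), g * L * g⁻¹ ∈ quad.left.tri → g ∈ M := by
    intro g hg hgL
    rcases quad.image_cases (six_move hle hB hg) with ⟨h1, h2, h3, h4⟩ | ⟨h1, -, -, -⟩
    swap
    · exact absurd h1 (quad.disjoint hgL)
    obtain ⟨t, ht, htg⟩ := quad.stable_factor h1 h2 h3 h4
    have h5 : t⁻¹ * g ∈ K2 ⊓ Subgroup.normalizer (B : Set G) :=
      Subgroup.mem_inf.2 ⟨centralizer_T4 ▸ htg, mul_mem (inv_mem (T4_le_normalizer hle ht)) hg⟩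
    rw [hM, show g = t * (t⁻¹ * g) by group]
    exact mul_mem (Subgroup.mem_sup_right ht) (Subgroup.mem_sup_left h5)
  -- the exchange
  obtain ⟨g, e1, e2, e3, e4⟩ := exists_swap
  have hgT : T4.map (MulAut.conj g).toMonoidHom ≤ T4 := by
    rw [T4, Quad.gens, MonoidHom.map_closure, Subgroup.closure_le]
    rintro _ ⟨x, hx, rfl⟩
    show g * x * g⁻¹ ∈ quad.gens
    rcases hx with h | h | h | h <;> rw [h]
    · rw [e1]; exact quad.gens_le (Or.inr (Or.inl rfl))
    · rw [e2]; exact quad.gens_le (Or.inr (Or.inr (Or.inl rfl)))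
    · rw [e3]; exact quad.gens_le (Or.inl (Or.inl rfl))
    · rw [e4]; exact quad.gens_le (Or.inl (Or.inr (Or.inl rfl)))
  have hgT' : T4.map (MulAut.conj g⁻¹).toMonoidHom ≤ T4 := by
    rw [T4, Quad.gens, MonoidHom.map_closure, Subgroup.closure_le]
    rintro _ ⟨x, hx, rfl⟩
    show g⁻¹ * x * g⁻¹⁻¹ ∈ quad.gens
    have hback : ∀ y z : G, g * y * g⁻¹ = z → g⁻¹ * z * g⁻¹⁻¹ = y := fun y z h => by rw [← h]; group
    rcases hx with h | h | h | h <;> rw [h]
    · rw [hback _ _ e3]; exact quad.gens_le (Or.inr (Or.inl rfl))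
    · rw [hback _ _ e4]; exact quad.gens_le (Or.inr (Or.inr (Or.inl rfl)))
    · rw [hback _ _ e1]; exact quad.gens_le (Or.inl (Or.inl rfl))
    · rw [hback _ _ e2]; exact quad.gens_le (Or.inl (Or.inr (Or.inl rfl)))
  have hK2 : B.map (MulAut.conj g).toMonoidHom ≤ K2 := by
    rintro _ ⟨x, hx, rfl⟩
    exact conj_K2 hgT' (hle hx)
  haveI := Fact.mk (show Nat.Prime 13 by norm_num)
  haveI : Finite K2 := Nat.finite_of_card_ne_zero (by rw [card_K2]; norm_num)
  obtain ⟨⟨k, hk⟩, hkB⟩ := conj_of_card_prime (S := K2) (p := 13)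
    (by rw [card_K2]; norm_num) (X := (B.map (MulAut.conj g).toMonoidHom).subgroupOf K2)
    (Y := B.subgroupOf K2)
    (by rw [Nat.card_congr (Subgroup.subgroupOfEquivOfLe hK2).toEquiv,
      ← Nat.card_congr (B.equivMapOfInjective _ (MulAut.conj g).injective).toEquiv, hB])
    (by rw [Nat.card_congr (Subgroup.subgroupOfEquivOfLe hle).toEquiv, hB])
  obtain ⟨s, hs⟩ : ∃ s, s = k * g := ⟨_, rfl⟩
  have hsB : ∀ x ∈ B, s * x * s⁻¹ ∈ B := by
    intro x hx
    have h1 : (⟨g * x * g⁻¹, hK2 ⟨x, hx, rfl⟩⟩ : K2) ∈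
        (B.map (MulAut.conj g).toMonoidHom).subgroupOf K2 := ⟨x, hx, rfl⟩
    have h2 : (MulAut.conj (⟨k, hk⟩ : K2)) ⟨g * x * g⁻¹, hK2 ⟨x, hx, rfl⟩⟩ ∈ B.subgroupOf K2 :=
      hkB ▸ ⟨_, h1, rfl⟩
    rw [hs, show k * g * x * (k * g)⁻¹ = k * (g * x * g⁻¹) * k⁻¹ by group]
    exact h2
  haveI : Finite B := Nat.finite_of_card_ne_zero (by rw [hB]; norm_num)
  have hsN : s ∈ Subgroup.normalizer (B : Set G) := by
    refine Subgroup.mem_normalizer_iff.2 fun x => ⟨hsB x, fun hx => ?_⟩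
    obtain ⟨⟨y, hy⟩, hyx⟩ :=
      Finite.surjective_of_injective (f := fun y : B => (⟨s * y * s⁻¹, hsB y y.2⟩ : B))
        (fun u v h => Subtype.ext (mul_left_cancel (mul_right_cancel (congrArg Subtype.val h))))
        ⟨s * x * s⁻¹, hx⟩
    rwa [← mul_left_cancel (mul_right_cancel (congrArg Subtype.val hyx))]
  have hkc : ∀ x, x ∈ quad.six → k * x * k⁻¹ = x := fun x hx => by
    have : k ∈ Subgroup.centralizer (T4 : Set G) := centralizer_T4.symm ▸ hk
    rw [← this x (quad.gens_le hx), mul_inv_cancel_right]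
  have hconj : ∀ y z, g * y * g⁻¹ = z → z ∈ quad.six → s * y * s⁻¹ = z := fun y z h hz => by
    rw [hs, show k * g * y * (k * g)⁻¹ = k * (g * y * g⁻¹) * k⁻¹ by group, h, hkc _ hz]
  have sL := hconj _ _ e1 (Or.inr (Or.inl rfl))
  have sb := hconj _ _ e3 (Or.inl (Or.inl rfl))
  rw [Subgroup.index_eq_two_iff]
  refine ⟨⟨s, hsN⟩, fun u => ?_⟩
  simp only [Subgroup.mem_subgroupOf, Subgroup.coe_mul]
  have hbL : (u : G) * s * L * ((u : G) * s)⁻¹ = u * T b0 * (u : G)⁻¹ := by
    rw [show (u : G) * s * L * ((u : G) * s)⁻¹ = u * (s * L * s⁻¹) * (u : G)⁻¹ by group, sL]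
  rcases quad.image_cases (six_move hle hB u.2) with ⟨h1, -, h3, -⟩ | ⟨h1, -, h3, -⟩
  · refine Or.inr ⟨hstab _ u.2 h1, fun h => ?_⟩
    have h' := (hkeep h).1 L (Or.inl rfl)
    rw [hbL] at h'
    exact quad.disjoint h' h3
  · refine Or.inl ⟨hstab _ (mul_mem u.2 hsN) (hbL ▸ h3), fun h => ?_⟩
    exact quad.disjoint ((hkeep h).1 L (Or.inl rfl)) h1

/-- The statement on subgroups of order thirteen, transported. -/
theorem thirteen {G' : Type*} [Group G'] (e : G ≃* G') {D' : Set G'} (heD : e '' D = D') :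
    (∀ X Y : Subgroup G', Nat.card X = 13 → Nat.card Y = 13 →
      ∃ g : G', X.map (MulAut.conj g).toMonoidHom = Y) ∧
    ∃ (a b c d : G') (T' K' : Subgroup G'), (∀ x ∈ [a, b, c, d], x ∈ D') ∧ ¬ Commute a d ∧
      ¬ Commute b c ∧ Commute a b ∧ Commute a c ∧ Commute d b ∧ Commute d c ∧
      T' = Subgroup.closure ({a, b, c, d} : Set G') ∧ K' = Subgroup.centralizer (T' : Set G') ∧
      Nonempty (↥K' ≃* ↥(Cfsg.Lie.chevG2.group (ZMod 3))) ∧
      ∀ B : Subgroup G', B ≤ K' → Nat.card B = 13 →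
        Subgroup.normalizer ((B : Subgroup G') : Set G') ≤
            Subgroup.normalizer ((K' : Subgroup G') : Set G') ∧
        Nat.card ↥(K' ⊓ Subgroup.normalizer ((B : Subgroup G') : Set G')) = 78 ∧
        K' ⊓ Subgroup.centralizer ((B : Subgroup G') : Set G') = B ∧
        (((K' ⊓ Subgroup.normalizer ((B : Subgroup G') : Set G')) ⊔ T').subgroupOf
          (Subgroup.normalizer ((B : Subgroup G') : Set G'))).index = 2 := by
  subst heD
  have hinj : Function.Injective e.toMonoidHom := e.injective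
  have hpull : ∀ X : Subgroup G', ∃ X0 : Subgroup G, X0.map e.toMonoidHom = X ∧
      Nat.card X0 = Nat.card X := by
    intro X
    have h : (X.comap e.toMonoidHom).map e.toMonoidHom = X :=
      Subgroup.map_comap_eq_self_of_surjective e.surjective X
    refine ⟨_, h, ?_⟩
    conv_rhs => rw [← h]
    exact Nat.card_congr ((X.comap e.toMonoidHom).equivMapOfInjective _ hinj).toEquiv
  constructor
  · intro X Y hX hY
    obtain ⟨X0, rfl, hX0⟩ := hpull X
    obtain ⟨Y0, rfl, hY0⟩ := hpull Y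
    obtain ⟨g, hg⟩ := conj_thirteen (hX0.trans hX) (hY0.trans hY)
    refine ⟨e g, ?_⟩
    rw [← hg, Subgroup.map_map, Subgroup.map_map]
    congr 1
    ext x
    simp
  have hcomm : ∀ x y : G, Commute (e x) (e y) ↔ Commute x y := fun x y =>
    ⟨fun h => by simpa using h.map e.symm.toMonoidHom, fun h => h.map e.toMonoidHom⟩
  refine ⟨e L, e (T b0), e (T c2), e K, T4.map e.toMonoidHom, K2.map e.toMonoidHom, ?_,
    fun h => quad.left.not_comm ((hcomm _ _).1 h), fun h => quad.right.not_comm ((hcomm _ _).1 h),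
    (hcomm _ _).2 quad.ab, (hcomm _ _).2 quad.ac, (hcomm _ _).2 quad.db, (hcomm _ _).2 quad.dc,
    ?_, ?_, ?_, ?_⟩
  · intro x hx
    simp only [List.mem_cons, List.not_mem_nil, or_false] at hx
    rcases hx with h | h | h | h <;> rw [h]
    exacts [⟨L, six_D (Or.inl (Or.inl rfl)), rfl⟩, ⟨_, T_mem _, rfl⟩, ⟨_, T_mem _, rfl⟩,
      ⟨K, six_D (Or.inl (Or.inr (Or.inl rfl))), rfl⟩]
  · rw [T4, Quad.gens, MonoidHom.map_closure]
    congr 1
    simp only [Set.image_insert_eq, Set.image_singleton, MulEquiv.coe_toMonoidHom]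
    ext x
    simp only [Set.mem_insert_iff, Set.mem_singleton_iff]
    tauto
  · rw [Subgroup.coe_map, ← centralizer_T4]
    exact map_centralizer_set e _
  · obtain ⟨f⟩ := K2_iso
    exact ⟨(K2.equivMapOfInjective e.toMonoidHom hinj).symm.trans f⟩
  · intro B hle hB
    obtain ⟨B0, rfl, hB0⟩ := hpull B
    have hle0 : B0 ≤ K2 := (Subgroup.map_le_map_iff_of_injective hinj).1 hle
    have h0 := hB0.trans hB
    obtain ⟨hC, hN⟩ := K2_thirteen hle0 h0
    rw [← Subgroup.map_equiv_normalizer_eq, ← Subgroup.map_equiv_normalizer_eq]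
    refine ⟨Subgroup.map_mono (normalizer_le hle0 h0), ?_, ?_, ?_⟩
    · rw [← Subgroup.map_inf _ _ _ hinj,
        ← Nat.card_congr (Subgroup.equivMapOfInjective _ _ hinj).toEquiv, hN]
    · rw [Subgroup.coe_map]
      erw [← map_centralizer_set]
      rw [← Subgroup.map_inf _ _ _ hinj, hC]
    · rw [← Subgroup.map_inf _ _ _ hinj, ← Subgroup.map_sup]
      exact (Subgroup.relIndex_map_map_of_injective _ _ hinj).trans (index_two hle0 h0)

end Cfsg.Agent.Fi24Pair
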